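import Groth.Agent.SGA6Ext.Exists
import Groth.Agent.PBundle.FrameTools
import Groth.Agent.TMul.RelAmple

/-!
The top exterior power sheaf of a module with frames: wedges of frames generate.
-/

set_option autoImplicit false
set_option backward.isDefEq.respectTransparency false
set_option backward.isDefEq.respectTransparency.types false

universe u

open CategoryTheory AlgebraicGeometry TopologicalSpace Opposite
open Groth.Agent.QC (res resO res_res res_self res_smul resO_resO)
open Groth.Agent.SGA6Ext
open TMul (IsFrame IsGen)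

noncomputable section

namespace Groth.Agent.HilbFin

variable {X : Scheme.{u}} {E : X.Modules} {d : ℕ}

/-- The wedge of `d` sections. -/
def wedge {U : X.Opens} (e : Fin d → Γ(E, U)) : Γ(extSh E d, U) :=
  eta E d U (exteriorPower.ιMulti Γ(X, U) d (fun i => (e i : Sec E U)))

theorem wedge_res {U V : X.Opens} (h : V ≤ U) (e : Fin d → Γ(E, U)) :
    res (extSh E d) h (wedge e) = wedge fun i => res E h (e i) := by
  refine (eta_res E d h _).trans ?_
  rw [extRes_ιMulti]
  rfl

theorem wedge_update_add {U : X.Opens} (e : Fin d → Γ(E, U)) (k : Fin d) (a b : Γ(E, U)) :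
    wedge (Function.update e k (a + b)) = wedge (Function.update e k a) + wedge (Function.update e k b) := by
  simp only [wedge]
  exact (congrArg (eta E d U) ((exteriorPower.ιMulti Γ(X, U) d (M := Sec E U)).map_update_add e k a b)).trans
    (map_add (eta E d U) _ _)

theorem wedge_update_smul {U : X.Opens} (e : Fin d → Γ(E, U)) (k : Fin d) (r : Γ(X, U)) (a : Γ(E, U)) :
    wedge (Function.update e k (r • a)) = r • wedge (Function.update e k a) := by
  simp only [wedge]
  refine Eq.trans (congrArg _ ((exteriorPower.ιMulti Γ(X, U) d (M := Sec E U)).map_update_smul e k r a)) ?_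
  exact map_smul (eta E d U) _ _

theorem wedge_eq_zero {U : X.Opens} (e : Fin d → Γ(E, U)) {i j : Fin d} (h : e i = e j) (hij : i ≠ j) :
    wedge e = 0 := by
  simp only [wedge]
  exact (congrArg _ (AlternatingMap.map_eq_zero_of_eq (exteriorPower.ιMulti Γ(X, U) d (M := Sec E U))
    e h hij)).trans (map_zero _)

/-- Sections with a basis. -/
def basisOf {U : X.Opens} {e : Fin d → Γ(E, U)} (he : IsFrame e) {V : X.Opens} (hV : V ≤ U) :
    Module.Basis (Fin d) Γ(X, V) (Sec E V) :=
  Module.Basis.ofEquivFun (he.equiv hV).symm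

theorem basisOf_apply {U : X.Opens} {e : Fin d → Γ(E, U)} (he : IsFrame e) {V : X.Opens} (hV : V ≤ U)
    (i : Fin d) : basisOf he hV i = secRes E hV (e i) := by
  classical
  simp only [basisOf, Module.Basis.coe_ofEquivFun, LinearEquiv.symm_symm]
  change ∑ j, (Pi.single i (1 : Γ(X, V)) : Fin d → Γ(X, V)) j • res E hV (e j) = _
  rw [Finset.sum_eq_single i (fun j _ hj => by rw [Pi.single_eq_of_ne hj, zero_smul]) (fun h => by simp at h),
    Pi.single_eq_same, one_smul]
  rfl

/-- Wedges are determinants with respect to a frame. -/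
theorem wedge_eq_det_smul {U : X.Opens} {e : Fin d → Γ(E, U)} (he : IsFrame e) {V : X.Opens} (hV : V ≤ U)
    (v : Fin d → Γ(E, V)) :
    wedge v = (basisOf he hV).det v • res (extSh E d) hV (wedge e) := by
  rw [wedge_res]
  let φ : (Sec E V) [⋀^Fin d]→ₗ[Γ(X, V)] Sec (extSh E d) V :=
    (eta E d V).compAlternatingMap (exteriorPower.ιMulti Γ(X, V) d (M := Sec E V))
  let b := basisOf he hV
  let ψ : (Sec E V) [⋀^Fin d]→ₗ[Γ(X, V)] Sec (extSh E d) V :=
    (LinearMap.toSpanSingleton Γ(X, V) (Sec (extSh E d) V) (φ b)).compAlternatingMap b.det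
  have h : φ = ψ := by
    refine b.ext_alternating fun s hs => ?_
    let σ : Equiv.Perm (Fin d) := Equiv.ofBijective s ⟨hs, Finite.surjective_of_injective hs⟩
    have h1 := φ.map_perm (fun i => b i) σ
    have h2 := b.det.map_perm (fun i => b i) σ
    rw [b.det_self] at h2
    refine h1.trans ?_
    change _ = (b.det fun i => b (s i)) • φ b
    rw [show (fun i => b (s i)) = (fun i => b i) ∘ σ from rfl, h2, smul_assoc, one_smul]
  refine Eq.trans (DFunLike.congr_fun h v) ?_
  change (basisOf he hV).det v • φ (basisOf he hV) = _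
  have hb : (⇑(basisOf he hV) : Fin d → Sec E V) = fun i => secRes E hV (e i) :=
    funext (basisOf_apply he hV)
  rw [hb]
  rfl

/-- The wedge of a frame generates. -/
theorem isGen_wedge {U : X.Opens} {e : Fin d → Γ(E, U)} (he : IsFrame e) : IsGen (wedge e) := by
  classical
  intro V hV
  have hbij := eta_bijective_small E d he V hV
  let b := basisOf he hV
  let B := b.exteriorPower d
  haveI hsub : Subsingleton (Set.powersetCard (Fin d) d) := by
    refine ⟨fun a c => Subtype.ext ?_⟩
    have ha := Finset.eq_univ_of_card a.1 (by rw [Fintype.card_fin]; exact a.2)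
    have hc := Finset.eq_univ_of_card c.1 (by rw [Fintype.card_fin]; exact c.2)
    exact ha.trans hc.symm
  let i₀ : Set.powersetCard (Fin d) d := Set.powersetCard.ofFinEmbEquiv (RelEmbedding.refl _)
  haveI : Unique (Set.powersetCard (Fin d) d) := uniqueOfSubsingleton i₀
  have hB : B default = exteriorPower.ιMulti Γ(X, V) d (fun i => secRes E hV (e i)) := by
    rw [show (default : Set.powersetCard (Fin d) d) = i₀ from Subsingleton.elim _ _,
      exteriorPower.basis_apply, exteriorPower.ιMulti_family, Equiv.symm_apply_apply]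
    refine congrArg _ (funext fun i => ?_)
    exact basisOf_apply he hV i
  have hfun : (fun c : Γ(X, V) => c • res (extSh E d) hV (wedge e)) =
      (eta E d V) ∘ ((LinearEquiv.funUnique (Set.powersetCard (Fin d) d) Γ(X, V) Γ(X, V)).symm.trans
        B.equivFun.symm) := by
    funext c
    rw [Function.comp_apply, LinearEquiv.trans_apply, Module.Basis.equivFun_symm_apply, Fintype.sum_unique]
    simp only [LinearEquiv.funUnique_symm_apply, uniqueElim_default, uniqueElim_const, map_smul]
    rw [hB, wedge_res]
    rfl
  rw [hfun]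
  exact hbij.comp (LinearEquiv.bijective _)

/-- Sections whose wedge generates form a frame near a point carrying a frame. -/
theorem isFrame_of_isGen_wedge (hE : Coh.IsQCoh E) {U : X.Opens} {e : Fin d → Γ(E, U)} (he : IsFrame e)
    {V : X.Opens} (hVa : IsAffineOpen V) (hV : V ≤ U) (v : Fin d → Γ(E, V)) (hg : IsGen (wedge v)) :
    IsFrame v := by
  classical
  obtain ⟨a, ha⟩ := (hg V le_rfl).2 (res (extSh E d) hV (wedge e))
  simp only [res_self] at ha
  rw [wedge_eq_det_smul he hV v, smul_smul] at ha
  have h1 : a * (basisOf he hV).det v = 1 := by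
    apply ((isGen_wedge he) V hV).1
    change _ = (1 : Γ(X, V)) • _
    rw [one_smul]
    exact ha
  have hu : IsUnit ((basisOf he hV).det v) := IsUnit.of_mul_eq_one_right a h1
  obtain ⟨hli, hsp⟩ := ((basisOf he hV).is_basis_iff_det).2 hu
  refine Groth.Agent.PBundle.isFrame_of_bijective hE hVa ?_
  let bv := Module.Basis.mk hli hsp.ge
  have hfun : (fun a : Fin d → Γ(X, V) => ∑ i, a i • v i) = bv.equivFun.symm := by
    funext a
    rw [Module.Basis.equivFun_symm_apply]
    exact Finset.sum_congr rfl fun i _ => by rw [Module.Basis.mk_apply]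
  rw [hfun]
  exact bv.equivFun.symm.bijective

end Groth.Agent.HilbFin
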