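import Groth.Agent.HilbFin.Good

/-!
Good loci of a universal family are affine, with functions generated by coordinates.
-/

set_option autoImplicit false
set_option backward.isDefEq.respectTransparency false
set_option backward.isDefEq.respectTransparency.types false
set_option linter.style.haveILetI false

universe u

open CategoryTheory CategoryTheory.Limits AlgebraicGeometry TopologicalSpace Opposite
open Groth.Agent.QC (res resO res_res res_self res_smul resO_resO)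
open Groth.Agent.HilbRep
open TMul (IsFrame)

noncomputable section

namespace Groth.Agent.HilbFin

variable {X S : Scheme.{u}} {f : X ⟶ S} {d : ℕ} [IsFinite f] {T : Scheme.{u}} (z : Fam f d T)

/-- A universal family. -/
def IsUniv : Prop := ∀ {T' : Scheme.{u}} (z' : Fam f d T'), ∃! h : T' ⟶ T, z.restr h = z'

variable {z} (hz : IsUniv z) {U : S.Opens} (hU : IsAffineOpen U) (b : Fin d → Γ(X, f ⁻¹ᵁ U))

/-- Coordinates of a function in the frame over the good locus. -/
def coef (z : Fam f d T) (β : Γ(X, f ⁻¹ᵁ U)) : Fin d → Γ(T, goodLocus (mkChart hU b) z) :=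
  ((isFrame_goodLocus z hU b).equiv le_rfl).symm (res (EMod z) (goodLocus_le z hU b) (evX z U β))

theorem coef_spec (z : Fam f d T) (β : Γ(X, f ⁻¹ᵁ U)) :
    ∑ i, coef hU b z β i • res (EMod z) (goodLocus_le z hU b) (evX z U (b i)) =
      res (EMod z) (goodLocus_le z hU b) (evX z U β) := by
  have := Groth.Agent.PBundle.sum_coords (isFrame_goodLocus z hU b) le_rfl
    (res (EMod z) (goodLocus_le z hU b) (evX z U β))
  simpa only [coef, res_self] using this

theorem coef_add (z : Fam f d T) (β γ : Γ(X, f ⁻¹ᵁ U)) (k : Fin d) :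
    coef hU b z (β + γ) k = coef hU b z β k + coef hU b z γ k := by
  simp only [coef]
  rw [evX_add, map_add, map_add, Pi.add_apply]

theorem coef_smul (z : Fam f d T) (r : Γ(S, U)) (β : Γ(X, f ⁻¹ᵁ U)) (k : Fin d) :
    coef hU b z ((f.app U).hom r * β) k =
      resO T (goodLocus_le z hU b) ((z.g.app U).hom r) * coef hU b z β k := by
  simp only [coef]
  rw [evX_smul, res_smul, map_smul, Pi.smul_apply, smul_eq_mul]

include hz in
theorem isAffineOpen_and_generated :
    IsAffineOpen (goodLocus (mkChart hU b) z) ∧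
      Subring.closure (Set.range (z.g.appLE U (goodLocus (mkChart hU b) z) (goodLocus_le z hU b)).hom ∪
        {y | ∃ β k, coef hU b z β k = y}) = ⊤ := by
  let c := mkChart hU b
  let O := goodLocus c z
  obtain ⟨k, hk, -⟩ := existsUnique_classify (z.restr O.ι) fun t => preimage_goodLocus z O.ι t.2
  obtain ⟨m, hm, -⟩ := hz c.univ

  have hrange : Set.range m ⊆ Set.range O.ι := by
    rintro _ ⟨t, rfl⟩
    rw [Scheme.Opens.range_ι]
    refine mem_goodLocus_image z m ?_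
    rw [hm]
    exact mem_goodLocus_of_good (good_univ c) t
  let m' : c.scheme ⟶ O.toScheme := IsOpenImmersion.lift O.ι m hrange
  have hm' : m' ≫ O.ι = m := IsOpenImmersion.lift_fac _ _ _
  have h1 : k ≫ m' = 𝟙 _ := by
    rw [← cancel_mono O.ι, Category.assoc, hm', Category.id_comp]
    refine (hz (z.restr O.ι)).unique ?_ rfl
    rw [← Fam.restr_restr, hm, hk]
  have h2 : m' ≫ k = 𝟙 _ := by
    refine (existsUnique_classify c.univ fun t => mem_goodLocus_of_good (good_univ c) t).unique ?_ c.univ.restr_id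
    rw [← Fam.restr_restr, hk, Fam.restr_restr, hm', hm]
  haveI : IsIso k := ⟨m', h1, h2⟩
  haveI : IsAffine O.toScheme := IsAffine.of_isIso k
  have hOa : IsAffineOpen O := ‹_›
  refine ⟨hOa, ?_⟩
  obtain ⟨χ, hχ⟩ := exists_toSpec k
  haveI : IsIso (Spec.map χ) := by
    have e : Spec.map χ = O.toScheme.isoSpec.inv ≫ k := by
      rw [hχ, toSpec, ← Scheme.isoSpec_hom, Iso.inv_hom_id_assoc]
    rw [e]; infer_instance
  haveI : IsIso χ := by
    haveI : IsIso (Scheme.Spec.map χ.op) := ‹IsIso (Spec.map χ)›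
    exact (isIso_op_iff χ).mp (isIso_of_reflects_iso χ.op Scheme.Spec)
  have hχb : Function.Bijective χ.hom := ConcreteCategory.bijective_of_isIso χ
  -- the family over the good locus
  subst hχ
  obtain ⟨e, hep, heq⟩ := c.exists_univIso
  obtain ⟨a', ha₁, ha₂⟩ : ∃ a' : (z.restr O.ι).sch ⟶ c.univ.sch,
      a' ≫ c.univ.p = (z.restr O.ι).p ≫ toSpec χ ∧ a' ≫ c.univ.q = (z.restr O.ι).q := by
    rw [← hk]
    obtain ⟨a, hpb, hqa⟩ := c.univ.exists_isPullback_restr (toSpec χ)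
    exact ⟨a, hpb.w, hqa⟩
  obtain ⟨τ, hτ⟩ := exists_toSpec (a' ≫ e.inv)
  have ha : a' = toSpec τ ≫ e.hom := by rw [← hτ, Category.assoc, Iso.inv_hom_id, Category.comp_id]
  have qU : (⊤ : (z.restr O.ι).sch.Opens) ≤ (z.restr O.ι).q ⁻¹ᵁ (f ⁻¹ᵁ U) := fun x _ => by
    change f ((z.restr O.ι).q x) ∈ U
    rw [← Scheme.Hom.comp_apply, (z.restr O.ι).q_f, Scheme.Hom.comp_apply, Fam.restr_g, Scheme.Hom.comp_apply]
    exact goodLocus_le z hU b ((z.restr O.ι).p x).2
  have gV : (⊤ : O.toScheme.Opens) ≤ (O.ι ≫ z.g) ⁻¹ᵁ U := fun x _ => goodLocus_le z hU b x.2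
  rw [ha, Category.assoc, hep, ChartData.uP, toSpec_map, comp_toSpec] at ha₁
  rw [ha, Category.assoc, heq, ChartData.uQ, ← Category.assoc, toSpec_map,
    eq_toSpec_fromSpec (z.restr O.ι).q (hU.preimage f) qU] at ha₂
  have hgeq : toSpec χ ≫ c.toBase = O.ι ≫ z.g := congrArg Fam.g hk
  rw [ChartData.toBase, ← Category.assoc, toSpec_map, eq_toSpec_fromSpec (O.ι ≫ z.g) hU gV] at hgeq
  have hgeq' := (cancel_mono hU.fromSpec).mp hgeq
  have ha₂' := (cancel_mono (hU.preimage f).fromSpec).mp ha₂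
  have e1 := congrArg CommRingCat.Hom.hom (toSpec_inj ha₁)
  have e2 := congrArg CommRingCat.Hom.hom (toSpec_inj ha₂')
  have e3 := congrArg CommRingCat.Hom.hom (toSpec_inj hgeq')
  -- back to sections over the good locus
  have e0 : (⊤ : O.toScheme.Opens) ≤ O.ι ⁻¹ᵁ O := fun x _ => x.2
  have hJ := appLE_bijective O.ι O.opensRange_ι e0
  letI : Algebra Γ(S, U) Γ(X, f ⁻¹ᵁ U) := c.algebraB
  let J := RingEquiv.ofBijective (O.ι.appLE O ⊤ e0).hom hJ
  let A : ChartRing Γ(S, U) Γ(X, f ⁻¹ᵁ U) b →+* Γ(T, O) := J.symm.toRingHom.comp χ.hom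
  have hA : Function.Surjective A := J.symm.surjective.comp hχb.2
  have hJA : ∀ x, (O.ι.appLE O ⊤ e0).hom (A x) = χ.hom x := fun x => J.apply_symm_apply (χ.hom x)
  have hAr : ∀ r : Γ(S, U), A (algebraMap Γ(S, U) _ r) = (z.g.appLE U O (goodLocus_le z hU b)).hom r := fun r => by
    refine hJ.1 ((hJA _).trans ((RingHom.congr_fun e3 r).trans ?_))
    exact congrArg (fun φ : Γ(S, U) ⟶ Γ(O.toScheme, ⊤) => φ.hom r)
      (Scheme.Hom.appLE_comp_appLE O.ι z.g U O ⊤ (goodLocus_le z hU b) e0).symm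
  have hgood : GoodAff c (z.restr O.ι) := by
    rw [← hk]
    exact (good_univ c).restr _
  have hAc : ∀ β k', A (coord b β k') = coef hU b z β k' := by
    intro β
    refine congrFun (((good_iff_bijective z hU b (goodLocus_le z hU b)).1 hgood).1 ?_)
    change ∑ i, A (coord b β i) • _ = ∑ i, coef hU b z β i • _
    rw [coef_spec]
    obtain ⟨a₀, hpb₀, hq₀⟩ := z.exists_isPullback_restr O.ι
    haveI : IsOpenImmersion a₀ :=
      MorphismProperty.of_isPullback (P := @IsOpenImmersion) hpb₀.flip (inferInstance : IsOpenImmersion O.ι)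
    have hr₀ : a₀.opensRange = z.p ⁻¹ᵁ O := by
      ext x
      constructor
      · rintro ⟨y, rfl⟩
        change z.p (a₀ y) ∈ O
        rw [← Scheme.Hom.comp_apply, hpb₀.w, Scheme.Hom.comp_apply]
        exact ((z.restr O.ι).p y).2
      · intro hx
        obtain ⟨y, hy, -⟩ := Scheme.Pullback.exists_preimage_pullback (f := z.p) (g := O.ι) x
          (⟨z.p x, hx⟩ : O.toScheme) rfl
        refine ⟨hpb₀.isoPullback.inv y, ?_⟩
        rw [← Scheme.Hom.comp_apply, hpb₀.isoPullback_inv_fst]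
        exact hy
    have e₁ : (⊤ : (z.restr O.ι).sch.Opens) ≤ a₀ ⁻¹ᵁ (z.p ⁻¹ᵁ O) := fun y _ => by rw [← hr₀]; exact ⟨y, rfl⟩
    let A₀ := (a₀.appLE (z.p ⁻¹ᵁ O) ⊤ e₁).hom
    refine (appLE_bijective a₀ hr₀ e₁).1 ?_
    change A₀ (∑ i, HMul.hMul (α := Γ(z.sch, z.p ⁻¹ᵁ O)) (β := Γ(z.sch, z.p ⁻¹ᵁ O)) (γ := Γ(z.sch, z.p ⁻¹ᵁ O))
      ((z.p.app O).hom (A (coord b β i))) (res (EMod z) (goodLocus_le z hU b) (evX z U (b i)))) = _
    have hq' : ∀ γ, A₀ (res (EMod z) (goodLocus_le z hU b) (evX z U γ)) =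
        ((z.restr O.ι).q.appLE (f ⁻¹ᵁ U) ⊤ qU).hom γ := fun γ => by
      have key : (z.restr O.ι).q.appLE (f ⁻¹ᵁ U) ⊤ qU =
          (z.q.appLE (f ⁻¹ᵁ U) (z.p ⁻¹ᵁ (z.g ⁻¹ᵁ U)) (preimage_le z U) ≫
            z.sch.presheaf.map (homOfLE (z.p.preimage_mono (goodLocus_le z hU b))).op) ≫
              a₀.appLE (z.p ⁻¹ᵁ O) ⊤ e₁ := by
        rw [Scheme.Hom.appLE_map, Scheme.Hom.appLE_comp_appLE]
        simp only [hq₀]
      exact congrArg (fun φ : Γ(X, f ⁻¹ᵁ U) ⟶ Γ((z.restr O.ι).sch, ⊤) => φ.hom γ) key.symm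
    have hp' : ∀ r, A₀ ((z.p.app O).hom r) = (z.restr O.ι).p.appTop.hom ((O.ι.appLE O ⊤ e0).hom r) := fun r => by
      have key : O.ι.appLE O ⊤ e0 ≫ (z.restr O.ι).p.appTop = z.p.app O ≫ a₀.appLE (z.p ⁻¹ᵁ O) ⊤ e₁ := by
        rw [appTop_eq, Scheme.Hom.app_eq_appLE, Scheme.Hom.appLE_comp_appLE, Scheme.Hom.appLE_comp_appLE]
        simp only [hpb₀.w]
      exact congrArg (fun φ : Γ(T, O) ⟶ Γ((z.restr O.ι).sch, ⊤) => φ.hom r) key.symm
    rw [map_sum]
    refine Eq.trans ?_ (hq' β).symm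
    refine Eq.trans ?_ (RingHom.congr_fun e2 β)
    refine Eq.trans (Finset.sum_congr rfl fun i _ => ?_)
      ((map_sum τ.hom _ _).symm.trans (congrArg τ.hom (chartPsi_eq_sum (R := Γ(S, c.V)) c.b β).symm))
    rw [map_mul, hp', hJA, hq']
    refine Eq.trans ?_ (τ.hom.map_mul (chartTheta (R := Γ(S, c.V)) c.b (coord c.b β i))
      (chartPsi (R := Γ(S, c.V)) c.b (c.b i))).symm
    exact congrArg₂ (· * ·) (RingHom.congr_fun e1 (coord c.b β i)).symm (RingHom.congr_fun e2 (c.b i)).symm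
  rw [eq_top_iff]
  intro y _
  obtain ⟨q, rfl⟩ := hA y
  obtain ⟨P, rfl⟩ := Ideal.Quotient.mk_surjective q
  induction P using MvPolynomial.induction_on with
  | C r => exact Subring.subset_closure (Or.inl ⟨r, (hAr r).symm⟩)
  | add P Q hP hQ =>
    rw [map_add, map_add]
    exact add_mem (hP trivial) (hQ trivial)
  | mul_X P w hP =>
    rw [map_mul, map_mul]
    exact mul_mem (hP trivial) (Subring.subset_closure (Or.inr ⟨w.1, w.2, (hAc w.1 w.2).symm⟩))

end Groth.Agent.HilbFin
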