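import Groth.Agent.SymAlg.Inv
import Groth.Agent.TMul.RelAmple
import Groth.Agent.TMul.Power
import Groth.Agent.UfdExtend.Glue

/-!
A section dividing the degree one part of the symmetric algebra of an invertible module generates it.
-/

set_option autoImplicit false
set_option backward.isDefEq.respectTransparency false
set_option linter.style.haveILetI false

universe u

open CategoryTheory AlgebraicGeometry TopologicalSpace Opposite
open Groth.Agent.QC (res resO res_res res_self res_smul)
open Groth.Agent.SymAlg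
open TMul (IsGen)

noncomputable section

namespace Groth.Agent.HilbFin

variable {X : Scheme.{u}} {L : X.Modules} {𝒮L : RelProj.QCGrAlg X} {j : L ⟶ 𝒮L.toModule}

theorem isGen_of_deg_one_subset_span (hL : PicF.IsInvertible L) (hLq : Coh.IsQCoh L)
    (hj : RelProj.IsGrSymAlg L 𝒮L j) {V : X.Opens} (hV : IsAffineOpen V) (σ : Γ(L, V))
    (h : ((𝒮L.deg V hV 1 : AddSubgroup _) : Set (𝒮L.presheaf.obj (op V))) ⊆ Ideal.span {jL j V σ}) :
    IsGen σ := by
  haveI : L.IsQuasicoherent := hLq
  refine UfdExtend.isGen_of_locally fun x hx => ?_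
  obtain ⟨N, m₀, hxN, hm₀⟩ := TMul.exists_isGen hL x
  obtain ⟨r, hr, hxr⟩ := hV.exists_basicOpen_le (V := N) ⟨x, hxN⟩ hx
  let W := X.basicOpen r
  have hW : IsAffineOpen W := hV.basicOpen r
  have hWV : W ≤ V := X.basicOpen_le r
  let m := res L hr m₀
  have hm : IsGen m := hm₀.res hr
  have hself : res L (le_refl W) m = m := res_self L le_rfl m
  obtain ⟨c, hc⟩ := (hm W le_rfl).2 (res L hWV σ)
  dsimp only at hc
  rw [hself] at hc
  refine ⟨W, hWV, hxr, ?_⟩
  rw [← hc]
  refine TMul.isGen_smul hm ?_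
  have hjs : ∀ (a : Γ(X, W)) (n : Γ(L, W)), jL j W (a • n) = strL 𝒮L W a * jL j W n := fun a n =>
    Scheme.Modules.Hom.app_smul j a n
  have key : ∀ y : Γ(L, V), ∀ e : Γ(X, W), e • m = res L hWV y → c ∣ e := by
    intro y e he
    obtain ⟨a, ha⟩ := Ideal.mem_span_singleton'.mp (h (jL_mem hj hV y))
    have ha' := congrArg (resL 𝒮L hWV) ha
    rw [map_mul, resL_jL, resL_jL, ← hc, ← he, hjs, hjs] at ha'
    obtain ⟨p, hp⟩ := (evalL_bijective hLq hj hW hm).2 (resL 𝒮L hWV a)
    rw [← hp] at ha'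
    have heq : p * (Polynomial.C c * Polynomial.X) = Polynomial.C e * Polynomial.X := by
      apply (evalL_bijective hLq hj hW hm).1
      simp only [evalL, map_mul, Polynomial.coe_eval₂RingHom, Polynomial.eval₂_C, Polynomial.eval₂_X,
        Polynomial.eval₂_mul] at ha' ⊢
      exact ha'
    refine ⟨p.coeff 0, ?_⟩
    have h1 := congrArg (fun q : Polynomial Γ(X, W) => q.coeff 1) heq
    simp only [← mul_assoc, Polynomial.coeff_mul_X, Polynomial.coeff_mul_C, Polynomial.coeff_C_zero] at h1
    rw [← h1, mul_comm]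
  have hspan : m ∈ Submodule.span Γ(X, W) (res L hWV '' (Set.univ : Set Γ(L, V))) :=
    Groth.Agent.QC.mem_span_basicOpen hV r (by simp) m
  have hdiv : ∀ v ∈ Submodule.span Γ(X, W) (res L hWV '' (Set.univ : Set Γ(L, V))), ∃ a, v = (c * a) • m := by
    intro v hv
    induction hv using Submodule.span_induction with
    | mem v hv =>
      obtain ⟨y, -, rfl⟩ := hv
      obtain ⟨e, he⟩ := (hm W le_rfl).2 (res L hWV y)
      dsimp only at he
      rw [hself] at he
      obtain ⟨a, ha⟩ := key y e he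
      exact ⟨a, by rw [← ha, he]⟩
    | zero => exact ⟨0, by rw [mul_zero, zero_smul]⟩
    | add a b _ _ iha ihb =>
      obtain ⟨a', rfl⟩ := iha; obtain ⟨b', rfl⟩ := ihb
      exact ⟨a' + b', by rw [mul_add, add_smul]⟩
    | smul t a _ iha =>
      obtain ⟨a', rfl⟩ := iha
      exact ⟨t * a', by rw [smul_smul]; ring_nf⟩
  obtain ⟨a, ha⟩ := hdiv m hspan
  refine IsUnit.of_mul_eq_one (b := a) ((hm W le_rfl).1 ?_).symm
  dsimp only
  rw [hself, one_smul]
  exact ha

end Groth.Agent.HilbFin
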