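import Groth.Agent.HilbFin.Proper
import Groth.Agent.HilbFin.Crit
import Groth.Agent.SymAlg.ProjFinite
import Groth.Agent.SymAlg.FTSub

/-!
Finite type very ample data for the determinant of a universal family of points of a finite scheme.
-/

set_option autoImplicit false
set_option backward.isDefEq.respectTransparency false
set_option backward.isDefEq.respectTransparency.types false
set_option linter.style.haveILetI false

universe u

open CategoryTheory CategoryTheory.Limits AlgebraicGeometry TopologicalSpace Opposite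
open Groth.Agent.QC (res resO res_res res_self res_smul resO_resO Sub LocFinGen GenOn genSub app_res)
open Groth.Agent.HilbRep
open TMul (IsFrame IsGen)

noncomputable section

namespace Groth.Agent.HilbFin

variable {X S : Scheme.{u}} {f : X ⟶ S} {d : ℕ} [IsFinite f] {T : Scheme.{u}} (z : Fam f d T)

/-- The direct image of the determinant. -/
abbrev Fmod : S.Modules := (Scheme.Modules.pushforward z.g).obj (LMod z)

/-- The section of the direct image attached to a tuple. -/
abbrev sigF (O : S.Opens) (b : Fin d → Γ(X, f ⁻¹ᵁ O)) : Γ(Fmod z, O) := sig z O b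

theorem sigF_res {O' O : S.Opens} (h : O' ≤ O) (b : Fin d → Γ(X, f ⁻¹ᵁ O)) :
    res (Fmod z) h (sigF z O b) = sigF z O' fun i => resO X (f.preimage_mono h) (b i) :=
  sig_res z h b

theorem res_span_sigF {O' O : S.Opens} (h : O' ≤ O) {s : Γ(Fmod z, O)}
    (hs : s ∈ Submodule.span Γ(S, O) (Set.range (sigF z O))) :
    res (Fmod z) h s ∈ Submodule.span Γ(S, O') (Set.range (sigF z O')) := by
  refine Submodule.span_mono ?_ (Groth.Agent.QC.res_mem_span h hs)
  rintro _ ⟨_, ⟨b, rfl⟩, rfl⟩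
  exact ⟨_, (sigF_res z h b).symm⟩

/-- The subsheaf generated by the sections attached to tuples. -/
def tupleSub : Sub (Fmod z) where
  obj O :=
    { carrier := {s | ∀ x ∈ O, ∃ (W : S.Opens) (h : W ≤ O), x ∈ W ∧
        res (Fmod z) h s ∈ Submodule.span Γ(S, W) (Set.range (sigF z W))}
      zero_mem' := fun x hx => ⟨O, le_rfl, hx, by rw [map_zero]; exact zero_mem _⟩
      add_mem' := fun {a b} ha hb x hx => by
        obtain ⟨W, h, hxW, ha⟩ := ha x hx
        obtain ⟨V, g, hxV, hb⟩ := hb x hx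
        refine ⟨W ⊓ V, inf_le_left.trans h, ⟨hxW, hxV⟩, ?_⟩
        rw [map_add, ← res_res (Fmod z) (inf_le_left : W ⊓ V ≤ W) h a,
          ← res_res (Fmod z) (inf_le_right : W ⊓ V ≤ V) g b]
        exact add_mem (res_span_sigF z _ ha) (res_span_sigF z _ hb)
      smul_mem' := fun c a ha x hx => by
        obtain ⟨W, h, hxW, ha⟩ := ha x hx
        exact ⟨W, h, hxW, by rw [res_smul]; exact Submodule.smul_mem _ _ ha⟩ }
  res_mem := fun {O' O} hO {s} hs x hx => by
    obtain ⟨W, h, hxW, hs⟩ := hs x (hO hx)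
    refine ⟨W ⊓ O', inf_le_right, ⟨hxW, hx⟩, ?_⟩
    rw [res_res, ← res_res (Fmod z) (inf_le_left : W ⊓ O' ≤ W) h s]
    exact res_span_sigF z _ hs
  local' := fun {O} s hs x hx => by
    obtain ⟨W, h, hxW, hs⟩ := hs x hx
    obtain ⟨W', h', hxW', hs'⟩ := hs x hxW
    rw [res_res] at hs'
    exact ⟨W', h'.trans h, hxW', hs'⟩

theorem sigF_mem_tupleSub (O : S.Opens) (b : Fin d → Γ(X, f ⁻¹ᵁ O)) : sigF z O b ∈ (tupleSub z).obj O :=
  fun x hx => ⟨O, le_rfl, hx, by rw [res_self]; exact Submodule.subset_span ⟨b, rfl⟩⟩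

/-- Over a basic open the tuples from a generating set span. -/
theorem sigF_mem_span_basicOpen {U : S.Opens} (hU : IsAffineOpen U) (G : Finset Γ(X, f ⁻¹ᵁ U))
    (hG : ∀ β : Γ(X, f ⁻¹ᵁ U), ∃ r : Γ(X, f ⁻¹ᵁ U) → Γ(S, U), β = ∑ g ∈ G, (f.app U).hom (r g) * g)
    (r : Γ(S, U)) (b : Fin d → Γ(X, f ⁻¹ᵁ S.basicOpen r)) :
    sigF z (S.basicOpen r) b ∈ Submodule.span Γ(S, S.basicOpen r)
      (res (Fmod z) (S.basicOpen_le r) '' Set.range fun c : Fin d → G => sigF z U fun i => (c i).1) := by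
  classical
  let D := S.basicOpen r
  let E := (Scheme.Modules.pushforward f).obj (Coh.structureModule X)
  haveI : E.IsQuasicoherent := by
    haveI : (Coh.structureModule X).IsQuasicoherent :=
      TMul.isQCoh_of_isInvertible TMul.isInvertible_structureModule
    exact Groth.Agent.QC.isQCoh_pushforward f
  let gr : G → Γ(X, f ⁻¹ᵁ D) := fun g => resO X (f.preimage_mono (S.basicOpen_le r)) g.1
  have htop : Submodule.span Γ(S, U) ((fun g : Γ(X, f ⁻¹ᵁ U) => (show Γ(E, U) from g)) '' (G : Set Γ(X, f ⁻¹ᵁ U))) = ⊤ := by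
    rw [eq_top_iff]
    rintro β -
    obtain ⟨c, hc⟩ := hG β
    rw [show β = ∑ g ∈ G, c g • (show Γ(E, U) from g) from hc]
    exact Submodule.sum_mem _ fun g hg => Submodule.smul_mem _ _ (Submodule.subset_span ⟨g, hg, rfl⟩)
  have hgen : ∀ β : Γ(E, D), β ∈ Submodule.span Γ(S, D) (Set.range fun g : G => (show Γ(E, D) from gr g)) := by
    intro β
    refine Submodule.span_mono ?_ (Groth.Agent.QC.mem_span_basicOpen (F := E) hU r htop β)
    rintro _ ⟨_, ⟨g, hg, rfl⟩, rfl⟩
    exact ⟨⟨g, hg⟩, rfl⟩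
  let M := Submodule.span Γ(S, D)
      (res (Fmod z) (S.basicOpen_le r) '' Set.range fun c : Fin d → G => sigF z U fun i => (c i).1)
  suffices key : ∀ (s : Finset (Fin d)) (b : Fin d → Γ(X, f ⁻¹ᵁ D)),
      (∀ i ∉ s, b i ∈ Set.range gr) → sigF z D b ∈ M from
    key Finset.univ b fun i hi => absurd (Finset.mem_univ i) hi
  intro s
  induction s using Finset.induction_on with
  | empty =>
    intro b hb
    choose c hc using fun i => hb i (Finset.notMem_empty i)
    refine Submodule.subset_span ⟨_, ⟨c, rfl⟩, ?_⟩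
    rw [sigF_res]
    exact congrArg (sigF z D) (funext hc)
  | insert j s hj ih =>
    intro b hb
    rw [← Function.update_eq_self j b]
    suffices H : ∀ v : Γ(E, D), sigF z D (Function.update b j v) ∈ M from H (b j)
    intro v
    have hv := hgen v
    induction hv using Submodule.span_induction with
    | mem v hv =>
      obtain ⟨g, rfl⟩ := hv
      refine ih _ fun i hi => ?_
      by_cases hij : i = j
      · subst hij
        exact ⟨g, (Function.update_self (f := b) i (gr g)).symm⟩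
      · rw [Function.update_of_ne hij]
        exact hb i (by simp [hij, hi])
    | zero =>
      have h0 : sig z D (Function.update b j 0) = 0 := by
        have := sig_update_add z D b j 0 0
        rw [add_zero] at this
        exact left_eq_add.mp this
      exact (congrArg (· ∈ M) h0).mpr (zero_mem M)
    | add a c _ _ ha hc =>
      have := sig_update_add z D b j a c
      exact (congrArg (· ∈ M) this).mpr (add_mem ha hc)
    | smul t a _ ha =>
      have := sig_update_smul z D b j t a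
      exact (congrArg (· ∈ M) this).mpr (M.smul_mem t ha)

theorem locFinGen_tupleSub : LocFinGen (tupleSub z) ⊤ := by
  classical
  intro x _
  obtain ⟨U, hU, hxU, -⟩ := exists_isAffineOpen_mem_and_subset (x := x) (U := ⊤) trivial
  obtain ⟨G, hG⟩ := exists_gens (f := f) hU
  refine ⟨U, hU, hxU, le_top, Finset.univ.image fun c : Fin d → G => sigF z U fun i => (c i).1,
    ⟨fun t ht => ?_, fun O hO s hs y hy _ => ?_⟩⟩
  · obtain ⟨c, -, rfl⟩ := Finset.mem_image.mp ht
    exact sigF_mem_tupleSub z U _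
  · obtain ⟨W, hW, hyW, hs⟩ := hs y hy
    obtain ⟨r, hr, hyr⟩ := hU.exists_basicOpen_le (V := W) ⟨y, hyW⟩ (hO (hW hyW))
    refine ⟨S.basicOpen r, hr.trans hW, S.basicOpen_le r, hyr, ?_⟩
    rw [Finset.coe_image, Finset.coe_univ, Set.image_univ, ← res_res (Fmod z) hr hW s]
    refine (Submodule.span_le.mpr ?_) (res_span_sigF z hr hs)
    rintro _ ⟨b, rfl⟩
    exact sigF_mem_span_basicOpen z hU G hG r b

variable {z} in
set_option maxHeartbeats 1000000 in
theorem ftData_g (hz : IsUniv z) [IsProper z.g] : SymAlg.FTData z.g (LMod z) := by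
  classical
  have hL := isInvertible_LMod z
  have hLq := TMul.isQCoh_of_isInvertible hL
  haveI : (LMod z).IsQuasicoherent := hLq
  obtain ⟨𝒮L, jl, hjl⟩ := SymAlg.exists_isGrSymAlg hLq
  have hF : Coh.IsQCoh (Fmod z) := Groth.Agent.QC.isQCoh_pushforward z.g
  haveI : (Fmod z).IsQuasicoherent := hF
  obtain ⟨𝒮, jF, hjF⟩ := SymAlg.exists_isGrSymAlg hF
  obtain ⟨u, hu⟩ := SymAlg.exists_canon hF hjF hjl
  obtain ⟨hEq, hEft⟩ := QC.Sub.isCoh_toModules (locFinGen_tupleSub z)
  obtain ⟨𝒯, jE, hjE⟩ := SymAlg.exists_isGrSymAlg hEq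
  obtain ⟨v, hv, hvj⟩ := SymAlg.exists_gradedHom hEq hjE ((tupleSub z).ι ≫ jF)
    fun U hU x => hjF.2 U hU ((tupleSub z).ι.app U x)
  let u' := SymAlg.compQ v hv u
  have happ : ∀ (U : S.Opens) (O : T.Opens) (h : O ≤ z.g ⁻¹ᵁ U) (x : Γ((tupleSub z).toModules, U)),
      (u'.appLE U O h).hom (jE.app U x) =
        SymAlg.jL jl O (res (LMod z) h ((tupleSub z).ι.app U x)) := fun U O h x => by
    rw [RelSpec.QHom.appLE_eq, CommRingCat.hom_comp, RingHom.comp_apply, SymAlg.compQ_app]
    have e1 : (v.hom.app (op U)).hom (jE.app U x) = jF.app U ((tupleSub z).ι.app U x) := congr(($hvj).app U x)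
    change (𝒮L.presheaf.map _).hom ((u.app U).hom ((v.hom.app (op U)).hom (jE.app U x))) = _
    rw [e1]
    exact (congrArg _ (SymAlg.isCanon_all hu U _)).trans (app_res jl _ _)
  have key : ∀ (x : T), ∃ (U : S.Opens) (hU : IsAffineOpen U) (O : T.Opens) (hO : IsAffineOpen O)
      (hle : O ≤ z.g ⁻¹ᵁ U) (e : 𝒯.presheaf.obj (op U)) (_ : e ∈ 𝒯.deg U hU 1) (m : Γ(LMod z, O)),
      x ∈ O ∧ IsGen m ∧ (u'.appLE U O hle).hom e = SymAlg.jL jl O m ∧
      SymAlg.Rel.NV u' hU 1 e = O ∧ ∀ t, t ∈ SymAlg.Rel.condSet u' hU 1 e O hle := by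
    intro x
    obtain ⟨U, hU, hxU, -⟩ := exists_isAffineOpen_mem_and_subset (x := z.g x) (U := ⊤) trivial
    obtain ⟨G, hG⟩ := exists_gens (f := f) hU
    obtain ⟨c, hc⟩ := exists_mem_goodLocus z hU G hG hxU
    let b : Fin d → Γ(X, f ⁻¹ᵁ U) := fun i => (c i).1
    let O := good z hU b
    have hO : IsAffineOpen O := (isAffineOpen_and_generated hz hU b).1
    have hle : O ≤ z.g ⁻¹ᵁ U := goodLocus_le z hU b
    let lift : ∀ b : Fin d → Γ(X, f ⁻¹ᵁ U), Γ((tupleSub z).toModules, U) :=
      fun b => (show (tupleSub z).obj U from ⟨sigF z U b, sigF_mem_tupleSub z U b⟩)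
    have hlift : ∀ b, (tupleSub z).ι.app U (lift b) = sigF z U b := fun _ => rfl
    let e := jE.app U (lift b)
    have hm : IsGen (res (LMod z) hle (sig z U b)) := isGen_sig_goodLocus z hU b
    have heq : (u'.appLE U O hle).hom e = SymAlg.jL jl O (res (LMod z) hle (sig z U b)) := by
      rw [happ, hlift]
    have he : e ∈ 𝒯.deg U hU 1 := hjE.2 U hU (lift b)
    refine ⟨U, hU, O, hO, hle, e, he, _, hc, hm, heq, ?_, ?_⟩
    · refine le_antisymm (iSup_le ?_) (SymAlg.Rel.Nonvanishing.le_NV u' hU (V := ⟨O, hO⟩) ⟨hle, ?_⟩)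
      · rintro ⟨⟨V, hV⟩, hVU, hsub⟩
        rw [happ, hlift] at hsub
        exact le_goodLocus_of_isGen z hU b hVU (isGen_of_deg_one_subset_span hL hLq hjl hV _ hsub)
      · intro a ha
        obtain ⟨k, rfl⟩ := SymAlg.exists_coeff hLq hjl hO hm ha
        rw [SetLike.mem_coe, pow_one, heq]
        exact Ideal.mul_mem_left _ _ (Ideal.mem_span_singleton_self _)
    · have hmem : ∀ (t : Γ(T, O)) (b' : Fin d → Γ(X, f ⁻¹ᵁ U)),
          res (LMod z) hle (sig z U b') = t • res (LMod z) hle (sig z U b) →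
          t ∈ SymAlg.Rel.condSubring u' hU he hle := fun t b' ht => by
        refine ⟨1, one_pos, jE.app U (lift b'), by rw [one_mul]; exact hjE.2 U hU _, ?_⟩
        refine Eq.trans ?_ (happ U O hle (lift b')).symm
        rw [pow_one, heq]
        refine (Scheme.Modules.Hom.app_smul jl t _).symm.trans ?_
        exact congrArg (SymAlg.jL jl O) ht.symm
      intro t
      have ht : t ∈ Subring.closure _ := (isAffineOpen_and_generated hz hU b).2.ge (Subring.mem_top t)
      refine (Subring.closure_le (t := SymAlg.Rel.condSubring u' hU he hle)).mpr ?_ ht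
      rintro _ (⟨r, rfl⟩ | ⟨β, k, rfl⟩)
      · exact SymAlg.Rel.appLE_mem_condSubring u' hU he hle r
      · exact hmem _ _ (sig_update_eq z hU b β k)
  refine ⟨hL, 𝒮L, jl, hjl, _, hEq, hEft, 𝒯, jE, hjE, u', fun x => ?_, fun x => ?_⟩
  · obtain ⟨U, hU, O, hO, hle, e, he, m, hx, hm, heq, hNV, hc⟩ := key x
    exact ⟨U, hU, 1, e, one_pos, he, hNV.ge hx, hNV ▸ hO,
      SymAlg.Rel.condSet_congr_all u' hU _ _ hNV.symm hle _ hc⟩
  · obtain ⟨U, hU, O, hO, hle, e, he, m, hx, hm, heq, -, -⟩ := key x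
    exact ⟨⟨U, hU, O, hO, hle, e, he, m, hm, heq⟩, hx⟩

end Groth.Agent.HilbFin
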