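import Groth.Agent.HilbRep.Main
import Groth.Agent.PBundle.FrameTools
import Groth.Agent.QC.Closure

/-!
Families of `d` points of a finite scheme: good loci through frames of the pushforward of the structure module.
-/

set_option autoImplicit false
set_option backward.isDefEq.respectTransparency false
set_option backward.isDefEq.respectTransparency.types false
set_option linter.style.haveILetI false

universe u

open CategoryTheory CategoryTheory.Limits AlgebraicGeometry TopologicalSpace Opposite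
open Groth.Agent.QC (res resO res_res res_self res_smul resO_resO)
open Groth.Agent.HilbRep
open Groth.Agent.WeakAssLib (mgerm mgerm_smul mgerm_res)
open TMul (IsFrame)

noncomputable section

namespace Groth.Agent.HilbFin

theorem isFrame_res_iff {X : Scheme.{u}} {N : X.Modules} {n : ℕ} {U V : X.Opens} (h : V ≤ U) (e : Fin n → Γ(N, U)) :
    IsFrame (fun i => res N h (e i)) ↔ ∀ (x : X) (hx : x ∈ V),
      Function.Bijective fun c : Fin n → X.presheaf.stalk x => ∑ i, c i • mgerm N (h hx) (e i) := by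
  simp only [IsFrame, mgerm_res]

theorem isFrame_res {X : Scheme.{u}} {N : X.Modules} {n : ℕ} {U V : X.Opens} (h : V ≤ U) {e : Fin n → Γ(N, U)}
    (he : IsFrame e) : IsFrame (fun i => res N h (e i)) :=
  (isFrame_res_iff h e).2 fun x hx => he x (h hx)

variable {X S : Scheme.{u}} {f : X ⟶ S} {d : ℕ} [IsFinite f] {T : Scheme.{u}} (z : Fam f d T)

/-- The pushforward of the structure module of the family. -/
def EMod : T.Modules := (Scheme.Modules.pushforward z.p).obj (Coh.structureModule z.sch)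

theorem isQCoh_EMod : Coh.IsQCoh (EMod z) := by
  haveI : (Coh.structureModule z.sch).IsQuasicoherent :=
    TMul.isQCoh_of_isInvertible TMul.isInvertible_structureModule
  exact Groth.Agent.QC.isQCoh_pushforward z.p

theorem preimage_le (O : S.Opens) : z.p ⁻¹ᵁ (z.g ⁻¹ᵁ O) ≤ z.q ⁻¹ᵁ (f ⁻¹ᵁ O) := fun x hx => by
  change f (z.q x) ∈ O
  rw [← Scheme.Hom.comp_apply, z.q_f, Scheme.Hom.comp_apply]
  exact hx

/-- Functions of `X` over `O` as sections of the pushforward. -/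
def evX (O : S.Opens) (β : Γ(X, f ⁻¹ᵁ O)) : Γ(EMod z, z.g ⁻¹ᵁ O) :=
  (z.q.appLE (f ⁻¹ᵁ O) (z.p ⁻¹ᵁ (z.g ⁻¹ᵁ O)) (preimage_le z O)).hom β

theorem evX_add (O : S.Opens) (a b : Γ(X, f ⁻¹ᵁ O)) : evX z O (a + b) = evX z O a + evX z O b :=
  map_add (z.q.appLE (f ⁻¹ᵁ O) (z.p ⁻¹ᵁ (z.g ⁻¹ᵁ O)) (preimage_le z O)).hom a b

theorem evX_smul (O : S.Opens) (r : Γ(S, O)) (β : Γ(X, f ⁻¹ᵁ O)) :
    evX z O ((f.app O).hom r * β) = (z.g.app O).hom r • evX z O β := by
  change (z.q.appLE _ _ _).hom ((f.app O).hom r * β) =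
    (z.p.app (z.g ⁻¹ᵁ O)).hom ((z.g.app O).hom r) * (z.q.appLE _ _ _).hom β
  rw [map_mul]
  congr 1
  have h1 : f.app O ≫ z.q.appLE (f ⁻¹ᵁ O) (z.p ⁻¹ᵁ (z.g ⁻¹ᵁ O)) (preimage_le z O) =
      (z.q ≫ f).appLE O (z.p ⁻¹ᵁ (z.g ⁻¹ᵁ O)) (preimage_le z O) := by
    rw [Scheme.Hom.app_eq_appLE, Scheme.Hom.appLE_comp_appLE]
  have h2 : z.g.app O ≫ z.p.app (z.g ⁻¹ᵁ O) = (z.p ≫ z.g).appLE O (z.p ⁻¹ᵁ (z.g ⁻¹ᵁ O)) le_rfl := by
    rw [Scheme.Hom.app_eq_appLE, Scheme.Hom.app_eq_appLE, Scheme.Hom.appLE_comp_appLE]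
  refine congrArg (fun φ : Γ(S, O) ⟶ Γ(z.sch, z.p ⁻¹ᵁ (z.g ⁻¹ᵁ O)) => φ.hom r)
    (h1.trans (Eq.trans ?_ h2.symm))
  simp only [z.q_f]

theorem evX_res {O' O : S.Opens} (h : O' ≤ O) (β : Γ(X, f ⁻¹ᵁ O)) :
    res (EMod z) (z.g.preimage_mono h) (evX z O β) = evX z O' (resO X (f.preimage_mono h) β) := by
  change (z.q.appLE _ _ _ ≫ z.sch.presheaf.map _).hom β = (X.presheaf.map _ ≫ z.q.appLE _ _ _).hom β
  rw [Scheme.Hom.appLE_map, Scheme.Hom.map_appLE]

/-- The chart of a tuple of functions over an affine open of the base. -/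
def mkChart {U : S.Opens} (hU : IsAffineOpen U) (b : Fin d → Γ(X, f ⁻¹ᵁ U)) : ChartData f d :=
  ⟨U, hU, f ⁻¹ᵁ U, hU.preimage f, le_rfl, b⟩

variable {U : S.Opens} (hU : IsAffineOpen U) (b : Fin d → Γ(X, f ⁻¹ᵁ U))

theorem goodLocus_le : goodLocus (mkChart hU b) z ≤ z.g ⁻¹ᵁ U := by
  rintro t ⟨W, j, hj, hW, ⟨w, rfl⟩, hg⟩
  exact hg.gV (x := w) trivial

theorem appTop_eq {A B : Scheme.{u}} (φ : A ⟶ B) :
    φ.appTop = φ.appLE ⊤ ⊤ (fun _ _ => trivial) := by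
  simp [Scheme.Hom.appTop, Scheme.Hom.appLE]

theorem appLE_bijective {A B : Scheme.{u}} (j : A ⟶ B) [IsOpenImmersion j] {V : B.Opens} (hV : j.opensRange = V) :
    ∀ e : (⊤ : A.Opens) ≤ j ⁻¹ᵁ V, Function.Bijective (j.appLE V ⊤ e).hom := by
  subst hV
  intro e
  haveI : IsIso (j.app j.opensRange) := j.isIso_app _ le_rfl
  have h2 : Function.Bijective (j.app j.opensRange).hom := ConcreteCategory.bijective_of_isIso _
  have h3 : j ⁻¹ᵁ j.opensRange = ⊤ := top_le_iff.mp e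
  haveI : IsIso (A.presheaf.map (homOfLE e).op) := by
    rw [show (homOfLE e) = eqToHom h3.symm from Subsingleton.elim _ _, eqToHom_op, eqToHom_map]
    infer_instance
  exact (ConcreteCategory.bijective_of_isIso (A.presheaf.map (homOfLE e).op)).comp h2

/-- Transport of the basis condition to an affine open of the base. -/
theorem good_iff_bijective {W : T.Opens} (hW : W ≤ z.g ⁻¹ᵁ U) :
    GoodAff (mkChart hU b) (z.restr W.ι) ↔ Function.Bijective fun c : Fin d → Γ(T, W) =>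
      ∑ i, c i • res (EMod z) hW (evX z U (b i)) := by
  obtain ⟨a, hpb, hq⟩ := z.exists_isPullback_restr W.ι
  haveI : IsOpenImmersion a :=
    MorphismProperty.of_isPullback (P := @IsOpenImmersion) hpb.flip (inferInstance : IsOpenImmersion W.ι)
  have hr : a.opensRange = z.p ⁻¹ᵁ W := by
    ext x
    constructor
    · rintro ⟨y, rfl⟩
      change z.p (a y) ∈ W
      rw [← Scheme.Hom.comp_apply, hpb.w, Scheme.Hom.comp_apply]
      exact ((z.restr W.ι).p y).2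
    · intro hx
      obtain ⟨y, hy, -⟩ := Scheme.Pullback.exists_preimage_pullback (f := z.p) (g := W.ι) x (⟨z.p x, hx⟩ : W.toScheme)
        (rfl : z.p x = W.ι (⟨z.p x, hx⟩ : W.toScheme))
      refine ⟨hpb.isoPullback.inv y, ?_⟩
      rw [← Scheme.Hom.comp_apply, hpb.isoPullback_inv_fst]
      exact hy
  have qU : (⊤ : (z.restr W.ι).sch.Opens) ≤ (z.restr W.ι).q ⁻¹ᵁ (f ⁻¹ᵁ U) := fun x _ => by
    change f ((z.restr W.ι).q x) ∈ U
    rw [← Scheme.Hom.comp_apply, (z.restr W.ι).q_f, Scheme.Hom.comp_apply, Fam.restr_g, Scheme.Hom.comp_apply]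
    exact hW ((z.restr W.ι).p x).2
  have gV : (⊤ : W.toScheme.Opens) ≤ (z.restr W.ι).g ⁻¹ᵁ U := fun x _ => hW x.2
  have e1 : (⊤ : (z.restr W.ι).sch.Opens) ≤ a ⁻¹ᵁ (z.p ⁻¹ᵁ W) := fun y _ => by
    rw [← hr]; exact ⟨y, rfl⟩
  have e0 : (⊤ : W.toScheme.Opens) ≤ W.ι ⁻¹ᵁ W := fun x _ => x.2
  have hA := appLE_bijective a hr e1
  have h0 := appLE_bijective W.ι W.opensRange_ι e0
  let A := (a.appLE (z.p ⁻¹ᵁ W) ⊤ e1).hom
  let J := (W.ι.appLE W ⊤ e0).hom
  have hp : ∀ r : Γ(T, W), (z.restr W.ι).p.appTop.hom (J r) = A ((z.p.app W).hom r) := fun r => by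
    have key : W.ι.appLE W ⊤ e0 ≫ (z.restr W.ι).p.appTop = z.p.app W ≫ a.appLE (z.p ⁻¹ᵁ W) ⊤ e1 := by
      rw [appTop_eq, Scheme.Hom.app_eq_appLE, Scheme.Hom.appLE_comp_appLE,
        Scheme.Hom.appLE_comp_appLE]
      simp only [hpb.w]
    exact congrArg (fun φ : Γ(T, W) ⟶ Γ((z.restr W.ι).sch, ⊤) => φ.hom r) key
  have hq' : ∀ β, ((z.restr W.ι).q.appLE (f ⁻¹ᵁ U) ⊤ qU).hom β = A (res (EMod z) hW (evX z U β)) := fun β => by
    have key : (z.restr W.ι).q.appLE (f ⁻¹ᵁ U) ⊤ qU =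
        (z.q.appLE (f ⁻¹ᵁ U) (z.p ⁻¹ᵁ (z.g ⁻¹ᵁ U)) (preimage_le z U) ≫
          z.sch.presheaf.map (homOfLE (z.p.preimage_mono hW)).op) ≫ a.appLE (z.p ⁻¹ᵁ W) ⊤ e1 := by
      rw [Scheme.Hom.appLE_map, Scheme.Hom.appLE_comp_appLE]
      simp only [hq]
    exact congrArg (fun φ : Γ(X, f ⁻¹ᵁ U) ⟶ Γ((z.restr W.ι).sch, ⊤) => φ.hom β) key
  have hsum : ∀ c : Fin d → Γ(T, W), ∑ i, (z.restr W.ι).p.appTop.hom (J (c i)) *
      ((z.restr W.ι).q.appLE (f ⁻¹ᵁ U) ⊤ qU).hom (b i) = A (∑ i, c i • res (EMod z) hW (evX z U (b i))) := by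
    intro c
    refine Eq.trans (Finset.sum_congr rfl fun i _ => ?_) (map_sum A _ _).symm
    rw [hp, hq']
    exact (map_mul A _ _).symm
  have hbij : Function.Bijective (fun a' : Fin d → Γ(W.toScheme, ⊤) => ∑ i, (z.restr W.ι).p.appTop.hom (a' i) *
      ((z.restr W.ι).q.appLE (f ⁻¹ᵁ U) ⊤ qU).hom (b i)) ↔
      Function.Bijective fun c : Fin d → Γ(T, W) => ∑ i, c i • res (EMod z) hW (evX z U (b i)) := by
    rw [← Function.Bijective.of_comp_iff _ (Function.Bijective.piMap fun _ : Fin d => h0),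
      ← Function.Bijective.of_comp_iff' hA (fun c : Fin d → Γ(T, W) => ∑ i, c i • res (EMod z) hW (evX z U (b i)))]
    exact Iff.of_eq (congrArg Function.Bijective (funext fun c => hsum c))
  exact ⟨fun h => hbij.mp h.bij, fun h => ⟨gV, qU, hbij.mpr h⟩⟩

/-- The chosen functions form a frame over the good locus. -/
theorem isFrame_goodLocus :
    IsFrame (fun i => res (EMod z) (goodLocus_le z hU b) (evX z U (b i))) := by
  rw [isFrame_res_iff]
  intro x hx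
  obtain ⟨W', j, hj, hW', ⟨w, rfl⟩, hg⟩ := hx
  haveI := hW'
  have hWa : IsAffineOpen j.opensRange := isAffineOpen_opensRange j
  haveI : IsAffine j.opensRange.toScheme := hWa
  have hle : j.opensRange ≤ z.g ⁻¹ᵁ U := by
    rintro _ ⟨y, rfl⟩
    exact hg.gV (x := y) trivial
  let k : j.opensRange.toScheme ⟶ W' := IsOpenImmersion.lift j j.opensRange.ι (by
    rintro _ ⟨y, rfl⟩
    exact y.2)
  have hk : k ≫ j = j.opensRange.ι := IsOpenImmersion.lift_fac _ _ _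
  have hgood : GoodAff (mkChart hU b) (z.restr j.opensRange.ι) := by
    rw [← hk, ← Fam.restr_restr]
    exact hg.restr k
  have hfr := Groth.Agent.PBundle.isFrame_of_bijective (isQCoh_EMod z) hWa
    ((good_iff_bijective z hU b hle).1 hgood)
  exact (isFrame_res_iff hle _).1 hfr (j w) ⟨w, rfl⟩

/-- Where the chosen functions form a frame, the chart is good. -/
theorem le_goodLocus {V : T.Opens} (hV : V ≤ z.g ⁻¹ᵁ U)
    (hfr : IsFrame (fun i => res (EMod z) hV (evX z U (b i)))) : V ≤ goodLocus (mkChart hU b) z := by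
  intro x hx
  obtain ⟨W, hW, hxW, hWV⟩ := exists_isAffineOpen_mem_and_subset (x := x) (U := V) hx
  have hfr' : IsFrame (fun i => res (EMod z) (show W ≤ z.g ⁻¹ᵁ U from fun y hy => hV (hWV hy)) (evX z U (b i))) :=
    (isFrame_res_iff _ _).2 fun y hy => (isFrame_res_iff hV _).1 hfr y (hWV hy)
  have hb : Function.Bijective fun c : Fin d → Γ(T, W) =>
      ∑ i, c i • res (EMod z) (show W ≤ z.g ⁻¹ᵁ U from fun y hy => hV (hWV hy)) (evX z U (b i)) := by
    have := (hfr'.equiv le_rfl).bijective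
    convert this using 1
    funext c
    exact Finset.sum_congr rfl fun i _ => by rw [res_self]
  haveI : IsAffine W.toScheme := hW
  exact ⟨W, W.ι, inferInstance, hW, ⟨⟨x, hxW⟩, rfl⟩, (good_iff_bijective z hU _ _).2 hb⟩

/-- Charts from tuples out of a generating set cover the preimage of an affine open. -/
theorem exists_mem_goodLocus (G : Finset Γ(X, f ⁻¹ᵁ U))
    (hG : ∀ β : Γ(X, f ⁻¹ᵁ U), ∃ r : Γ(X, f ⁻¹ᵁ U) → Γ(S, U), β = ∑ g ∈ G, (f.app U).hom (r g) * g)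
    {x : T} (hx : x ∈ z.g ⁻¹ᵁ U) : ∃ c : Fin d → G, x ∈ goodLocus (mkChart hU fun i => (c i).1) z := by
  classical
  obtain ⟨W, hW, hxW, hWU⟩ := exists_isAffineOpen_mem_and_subset (x := x) (U := z.g ⁻¹ᵁ U) hx
  haveI : IsAffine W.toScheme := hW
  let z' := z.restr W.ι
  have hgV : (⊤ : W.toScheme.Opens) ≤ z'.g ⁻¹ᵁ U := fun y _ => hWU y.2
  have hqU : (⊤ : z'.sch.Opens) ≤ z'.q ⁻¹ᵁ (f ⁻¹ᵁ U) := fun y _ => by
    change f (z'.q y) ∈ U
    rw [← Scheme.Hom.comp_apply, z'.q_f, Scheme.Hom.comp_apply]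
    exact hgV (x := z'.p y) trivial
  letI := z'.p.appTop.hom.toAlgebra
  obtain ⟨h1, h2, h3⟩ := module_of_fam z'
  haveI := h1
  haveI := h2
  let ψ := z'.q.appLE (f ⁻¹ᵁ U) ⊤ hqU
  have hψ : f.app U ≫ ψ = z'.g.appLE U ⊤ hgV ≫ z'.p.appTop := by
    rw [appTop_eq, Scheme.Hom.app_eq_appLE, Scheme.Hom.appLE_comp_appLE, Scheme.Hom.appLE_comp_appLE]
    simp only [z'.q_f]
  have hspan : Submodule.span Γ(W.toScheme, ⊤) (Set.range fun g : G => ψ.hom g.1) = ⊤ := by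
    rw [eq_top_iff, ← span_range_eq_top z' (hU.preimage f) hqU, Submodule.span_le]
    rintro _ ⟨β, rfl⟩
    obtain ⟨r, hr⟩ := hG β
    rw [hr, SetLike.mem_coe, map_sum]
    refine Submodule.sum_mem _ fun g hg => ?_
    rw [map_mul, show ψ.hom ((f.app U).hom (r g)) = z'.p.appTop.hom ((z'.g.appLE U ⊤ hgV).hom (r g)) from
      congrArg (fun φ : Γ(S, U) ⟶ Γ(z'.sch, ⊤) => φ.hom (r g)) hψ]
    exact Submodule.smul_mem _ _ (Submodule.subset_span ⟨⟨g, hg⟩, rfl⟩)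
  obtain ⟨c, hc⟩ := exists_family h3 _ hspan (W.toScheme.isoSpec.hom ⟨x, hxW⟩)
  exact ⟨c, map_goodLocus z W.ι (exists_good_of_notMem (c := mkChart hU fun i => (c i).1) z' hgV hqU ⟨x, hxW⟩ hc)⟩

end Groth.Agent.HilbFin
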