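import Groth.Agent.HilbFin.Chart
import Groth.Agent.HilbFin.Det
import Groth.Agent.InvGen.Basic

/-!
The determinant line bundle of a family of points and its sections from tuples of functions.
-/

set_option autoImplicit false
set_option backward.isDefEq.respectTransparency false
set_option backward.isDefEq.respectTransparency.types false
set_option linter.style.haveILetI false

universe u

open CategoryTheory CategoryTheory.Limits AlgebraicGeometry TopologicalSpace Opposite
open Groth.Agent.QC (res resO res_res res_self res_smul resO_resO)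
open Groth.Agent.HilbRep
open TMul (IsFrame IsGen)

noncomputable section

namespace Groth.Agent.HilbFin

variable {X S : Scheme.{u}} {f : X ⟶ S} {d : ℕ} [IsFinite f] {T : Scheme.{u}} (z : Fam f d T)

/-- The determinant of the family. -/
def LMod : T.Modules := SGA6Ext.extSh (EMod z) d

/-- The section of the determinant attached to a tuple. -/
def sig (O : S.Opens) (b : Fin d → Γ(X, f ⁻¹ᵁ O)) : Γ(LMod z, z.g ⁻¹ᵁ O) :=
  wedge fun i => evX z O (b i)

theorem sig_res {O' O : S.Opens} (h : O' ≤ O) (b : Fin d → Γ(X, f ⁻¹ᵁ O)) :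
    res (LMod z) (z.g.preimage_mono h) (sig z O b) = sig z O' fun i => resO X (f.preimage_mono h) (b i) := by
  refine (wedge_res _ _).trans (congrArg wedge (funext fun i => ?_))
  exact evX_res z h (b i)

theorem evX_update (O : S.Opens) (b : Fin d → Γ(X, f ⁻¹ᵁ O)) (k : Fin d) (β : Γ(X, f ⁻¹ᵁ O)) :
    (fun i => evX z O (Function.update b k β i)) = Function.update (fun i => evX z O (b i)) k (evX z O β) :=
  funext fun i => Function.apply_update (fun _ => evX z O) b k β i

theorem sig_update_add (O : S.Opens) (b : Fin d → Γ(X, f ⁻¹ᵁ O)) (k : Fin d) (a c : Γ(X, f ⁻¹ᵁ O)) :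
    sig z O (Function.update b k (a + c)) =
      sig z O (Function.update b k a) + sig z O (Function.update b k c) := by
  simp only [sig, evX_update, evX_add]
  exact wedge_update_add _ _ _ _

theorem sig_update_smul (O : S.Opens) (b : Fin d → Γ(X, f ⁻¹ᵁ O)) (k : Fin d) (r : Γ(S, O)) (a : Γ(X, f ⁻¹ᵁ O)) :
    sig z O (Function.update b k ((f.app O).hom r * a)) =
      (z.g.app O).hom r • sig z O (Function.update b k a) := by
  simp only [sig, evX_update, evX_smul]
  exact wedge_update_smul _ _ _ _

variable {U : S.Opens} (hU : IsAffineOpen U) (b : Fin d → Γ(X, f ⁻¹ᵁ U))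

theorem isGen_sig_goodLocus : IsGen (res (LMod z) (goodLocus_le z hU b) (sig z U b)) := by
  rw [show res (LMod z) (goodLocus_le z hU b) (sig z U b) =
    wedge fun i => res (EMod z) (goodLocus_le z hU b) (evX z U (b i)) from wedge_res _ _]
  exact isGen_wedge (isFrame_goodLocus z hU b)

include hU in
theorem exists_gens : ∃ G : Finset Γ(X, f ⁻¹ᵁ U),
    ∀ β : Γ(X, f ⁻¹ᵁ U), ∃ r : Γ(X, f ⁻¹ᵁ U) → Γ(S, U), β = ∑ g ∈ G, (f.app U).hom (r g) * g := by
  classical
  have h : (f.app U).hom.Finite := IsFinite.finite_app (f := f) U hU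
  letI := (f.app U).hom.toAlgebra
  haveI : Module.Finite Γ(S, U) Γ(X, f ⁻¹ᵁ U) := h
  obtain ⟨G, hG⟩ := (Module.Finite.fg_top (R := Γ(S, U)) (M := Γ(X, f ⁻¹ᵁ U)))
  refine ⟨G, fun β => ?_⟩
  obtain ⟨c, -, hc⟩ := Submodule.mem_span_finset.mp (hG ▸ Submodule.mem_top (x := β))
  exact ⟨c, hc.symm⟩

theorem isInvertible_LMod : PicF.IsInvertible (LMod z) := by
  refine InvGen.isInvertible fun x => ?_
  obtain ⟨U, hU, hxU, -⟩ := exists_isAffineOpen_mem_and_subset (x := z.g x) (U := ⊤) trivial
  obtain ⟨G, hG⟩ := exists_gens (f := f) hU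
  obtain ⟨c, hc⟩ := exists_mem_goodLocus z hU G hG hxU
  exact ⟨_, _, hc, isGen_sig_goodLocus z hU fun i => (c i).1⟩

/-- Where the section generates, the chart is good. -/
theorem le_goodLocus_of_isGen {V : T.Opens} (hV : V ≤ z.g ⁻¹ᵁ U)
    (hg : IsGen (res (LMod z) hV (sig z U b))) : V ≤ goodLocus (mkChart hU b) z := by
  intro x hx
  obtain ⟨G, hG⟩ := exists_gens (f := f) hU
  obtain ⟨c, hc⟩ := exists_mem_goodLocus z hU G hG (hV hx)
  obtain ⟨W, hW, hxW, hle⟩ := exists_isAffineOpen_mem_and_subset
    (x := x) (U := V ⊓ goodLocus (mkChart hU fun i => (c i).1) z) ⟨hx, hc⟩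
  have hWV : W ≤ V := fun y hy => (hle hy).1
  have h1 : IsGen (wedge fun i => res (EMod z) (hWV.trans hV) (evX z U (b i))) := by
    rw [← wedge_res]
    have := hg.res hWV
    rwa [res_res] at this
  have hfr := isFrame_of_isGen_wedge (isQCoh_EMod z) (isFrame_goodLocus z hU fun i => (c i).1) hW
    (fun y hy => (hle hy).2) _ h1
  exact le_goodLocus z hU b (hWV.trans hV) hfr hxW

/-- Cramer: coordinates are ratios of the sections. -/
theorem sig_update_eq (β : Γ(X, f ⁻¹ᵁ U)) (k : Fin d) :
    res (LMod z) (goodLocus_le z hU b) (sig z U (Function.update b k β)) =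
      coef hU b z β k • res (LMod z) (goodLocus_le z hU b) (sig z U b) := by
  classical
  simp only [sig, evX_update]
  refine (wedge_res _ _).trans (Eq.trans ?_ (congrArg (coef hU b z β k • ·) (wedge_res _ _).symm))
  let e := fun i => res (EMod z) (goodLocus_le z hU b) (evX z U (b i))
  let L : Γ(EMod z, goodLocus (mkChart hU b) z) →ₗ[Γ(T, goodLocus (mkChart hU b) z)]
      Γ(SGA6Ext.extSh (EMod z) d, goodLocus (mkChart hU b) z) :=
    { toFun := fun v => wedge (Function.update e k v)
      map_add' := fun a c => wedge_update_add e k a c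
      map_smul' := fun r a => wedge_update_smul e k r a }
  have h := congrArg L (coef_spec hU b z β)
  rw [map_sum] at h
  have e1 : (fun i => res (EMod z) (goodLocus_le z hU b)
      (Function.update (fun j => evX z U (b j)) k (evX z U β) i)) =
      Function.update e k (res (EMod z) (goodLocus_le z hU b) (evX z U β)) :=
    funext fun i => Function.apply_update (fun _ => res (EMod z) (goodLocus_le z hU b)) _ k _ i
  rw [e1]
  refine h.symm.trans ?_
  rw [Finset.sum_eq_single k (fun i _ hi => ?_) (fun hk => (hk (Finset.mem_univ k)).elim)]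
  · rw [map_smul]
    exact congrArg (coef hU b z β k • ·) (congrArg wedge (Function.update_eq_self k e))
  · rw [map_smul]
    change _ • wedge (Function.update e k (e i)) = 0
    rw [wedge_eq_zero (i := i) (j := k) _ (by rw [Function.update_of_ne hi, Function.update_self]) hi, smul_zero]

end Groth.Agent.HilbFin
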