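import Groth.Agent.HilbFin.FT
import Groth.Agent.S1166
import Groth.Agent.S1167

/-!
The Hilbert scheme of points of a finite morphism is projective.
-/

set_option autoImplicit false
set_option backward.isDefEq.respectTransparency false
set_option backward.isDefEq.respectTransparency.types false
set_option linter.style.haveILetI false

universe u

open CategoryTheory CategoryTheory.Limits AlgebraicGeometry
open Groth.Agent.HilbRep

noncomputable section

namespace Groth.Agent.HilbFin

theorem isUniv_of_isUniversal {X S : Scheme.{u}} {f : X ⟶ S} {d : ℕ} {H : Over S} {Z : HilbD.Obj f d H}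
    (hZ : HilbD.IsUniversal f d H Z) : IsUniv (⟨H.hom, Z⟩ : Fam f d H.left) := by
  intro T' z'
  let zH : Fam f d H.left := ⟨H.hom, Z⟩
  have key : ∀ (g : T' ⟶ S) (Z' : HilbD.Obj f d (Over.mk g)) (m : T' ⟶ H.left) (hm : m ≫ H.hom = g),
      zH.restr m = ⟨g, Z'⟩ ↔ HilbD.pull f (Over.homMk m hm : Over.mk g ⟶ H) Z.1 = Z'.1 := by
    intro g Z' m hm
    subst hm
    refine ⟨fun e => ?_, fun e => congrArg (Fam.mk _) (Subtype.ext e)⟩
    have : (zH.restr m).Z = Z' := by
      simpa [Fam.restr, zH] using e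
    exact congrArg Subtype.val this
  obtain ⟨gT, Z'⟩ := z'
  obtain ⟨m, hm, hu⟩ := hZ (Over.mk gT) Z'
  refine ⟨m.left, (key gT Z' m.left (Over.w m)).mpr hm, fun m' hm' => ?_⟩
  have hg : m' ≫ H.hom = gT := congrArg Fam.g hm'
  exact congrArg CommaMorphism.left (hu (Over.homMk m' hg) ((key gT Z' m' hg).mp hm'))

/-- The Hilbert scheme of `d` points of a finite morphism is projective. -/
theorem representable_projective {X S : Scheme.{u}} (f : X ⟶ S) [IsFinite f] (d : ℕ) :
    ∃ (H : Over S) (Z : HilbD.Obj f d H), HilbD.IsUniversal f d H Z ∧ RelProj.IsProjective H.hom := by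
  obtain ⟨H, Z, hZ⟩ := Groth.Agent.S1166.result f d (fun s x hx => by
    obtain ⟨V, hV, hsV, -⟩ := exists_isAffineOpen_mem_and_subset (x := s) (U := ⊤) trivial
    exact ⟨f ⁻¹ᵁ V, hV.preimage f, fun i => show f (x i) ∈ V from (hx i).symm ▸ hsV⟩)
  let z : Fam f d H.left := ⟨H.hom, Z⟩
  haveI : IsSeparated z.g := Groth.Agent.S1167.result f d H Z hZ
  have hz : IsUniv z := isUniv_of_isUniversal hZ
  haveI : IsProper z.g := isProper_g hz
  exact ⟨H, Z, hZ, SymAlg.isProjective_of_ftData z.g (ftData_g hz)⟩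

end Groth.Agent.HilbFin
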