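import Groth.Agent.HilbFin.Line
import Mathlib.AlgebraicGeometry.ValuativeCriterion
import Mathlib.RingTheory.Valuation.ValuationRing

/-!
A universal family of points of a finite scheme lives over a proper scheme.
-/

set_option autoImplicit false
set_option backward.isDefEq.respectTransparency false
set_option backward.isDefEq.respectTransparency.types false
set_option linter.style.haveILetI false

universe u

open CategoryTheory CategoryTheory.Limits AlgebraicGeometry TopologicalSpace Opposite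
open Groth.Agent.QC (res resO res_res res_self res_smul resO_resO)
open Groth.Agent.HilbRep
open TMul (IsFrame IsGen)

noncomputable section

namespace Groth.Agent.HilbFin

variable {X S : Scheme.{u}} {f : X ⟶ S} {d : ℕ} [IsFinite f] {T : Scheme.{u}} {z : Fam f d T}

/-- The good locus of a tuple over an affine open of the base. -/
abbrev good (z : Fam f d T) {U : S.Opens} (hU : IsAffineOpen U) (b : Fin d → Γ(X, f ⁻¹ᵁ U)) : T.Opens :=
  goodLocus (mkChart hU b) z

theorem coef_mem_closure {U : S.Opens} (hU : IsAffineOpen U) (b : Fin d → Γ(X, f ⁻¹ᵁ U))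
    (G : Finset Γ(X, f ⁻¹ᵁ U))
    (hG : ∀ β : Γ(X, f ⁻¹ᵁ U), ∃ r : Γ(X, f ⁻¹ᵁ U) → Γ(S, U), β = ∑ g ∈ G, (f.app U).hom (r g) * g)
    (β : Γ(X, f ⁻¹ᵁ U)) (k : Fin d) :
    coef hU b z β k ∈ Subring.closure (Set.range (z.g.appLE U (good z hU b) (goodLocus_le z hU b)).hom ∪
      {y | ∃ g ∈ G, ∃ k, coef hU b z g k = y}) := by
  classical
  obtain ⟨r, hr⟩ := hG β
  let φ : Γ(X, f ⁻¹ᵁ U) →+ Γ(T, good z hU b) :=
    AddMonoidHom.mk' (fun γ => coef hU b z γ k) fun a c => coef_add hU b z a c k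
  change φ β ∈ _
  rw [hr, map_sum]
  refine sum_mem fun g hg => ?_
  change coef hU b z ((f.app U).hom (r g) * g) k ∈ _
  rw [coef_smul]
  exact mul_mem (Subring.subset_closure (Or.inl ⟨r g, rfl⟩))
    (Subring.subset_closure (Or.inr ⟨g, hg, k, rfl⟩))

theorem closure_eq_top (hz : IsUniv z) {U : S.Opens} (hU : IsAffineOpen U) (b : Fin d → Γ(X, f ⁻¹ᵁ U))
    (G : Finset Γ(X, f ⁻¹ᵁ U))
    (hG : ∀ β : Γ(X, f ⁻¹ᵁ U), ∃ r : Γ(X, f ⁻¹ᵁ U) → Γ(S, U), β = ∑ g ∈ G, (f.app U).hom (r g) * g) :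
    Subring.closure (Set.range (z.g.appLE U (good z hU b) (goodLocus_le z hU b)).hom ∪
      {y | ∃ g ∈ G, ∃ k, coef hU b z g k = y}) = ⊤ := by
  rw [eq_top_iff, ← (isAffineOpen_and_generated hz hU b).2, Subring.closure_le]
  rintro y (hy | ⟨β, k, rfl⟩)
  · exact Subring.subset_closure (Or.inl hy)
  · exact coef_mem_closure hU b G hG β k

theorem locallyOfFiniteType_g (hz : IsUniv z) : LocallyOfFiniteType z.g := by
  classical
  rw [HasRingHomProperty.iff_exists_appLE (P := @LocallyOfFiniteType)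
    (RingHom.finiteType_stableUnderComposition.stableUnderCompositionWithLocalizationAway
      RingHom.finiteType_holdsForLocalizationAway).left]
  intro x
  obtain ⟨U, hU, hxU, -⟩ := exists_isAffineOpen_mem_and_subset (x := z.g x) (U := ⊤) trivial
  obtain ⟨G, hG⟩ := exists_gens (f := f) hU
  obtain ⟨c, hc⟩ := exists_mem_goodLocus z hU G hG hxU
  let b : Fin d → Γ(X, f ⁻¹ᵁ U) := fun i => (c i).1
  refine ⟨⟨U, hU⟩, ⟨good z hU b, (isAffineOpen_and_generated hz hU b).1⟩, hc, goodLocus_le z hU b, ?_⟩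
  let φ := (z.g.appLE U (good z hU b) (goodLocus_le z hU b)).hom
  letI := φ.toAlgebra
  refine (RingHom.finiteType_algebraMap (A := Γ(S, U)) (B := Γ(T, good z hU b))).mpr ⟨⟨
    (G ×ˢ (Finset.univ : Finset (Fin d))).image (fun w => coef hU b z w.1 w.2), eq_top_iff.mpr fun y _ => ?_⟩⟩
  have hy : y ∈ Subring.closure (Set.range φ ∪ {y | ∃ g ∈ G, ∃ k, coef hU b z g k = y}) :=
    (closure_eq_top hz hU b G hG).ge trivial
  refine (Subring.closure_le (t := (Algebra.adjoin Γ(S, U) _).toSubring)).mpr ?_ hy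
  rintro _ (⟨r, rfl⟩ | ⟨g, hg, k, rfl⟩)
  · exact Subalgebra.algebraMap_mem _ r
  · exact Algebra.subset_adjoin (Finset.mem_image.mpr ⟨(g, k), Finset.mem_product.mpr ⟨hg, Finset.mem_univ k⟩, rfl⟩)

theorem quasiCompact_g (hz : IsUniv z) : QuasiCompact z.g := by
  classical
  rw [quasiCompact_iff_forall_isAffineOpen]
  intro U hU
  obtain ⟨G, hG⟩ := exists_gens (f := f) hU
  have : (z.g ⁻¹ᵁ U : Set T) = ⋃ c : Fin d → G, (good z hU fun i => (c i).1 : Set T) := by
    refine Set.Subset.antisymm (fun x hx => ?_) (Set.iUnion_subset fun c => goodLocus_le z hU _)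
    obtain ⟨c, hc⟩ := exists_mem_goodLocus z hU G hG hx
    exact Set.mem_iUnion.mpr ⟨c, hc⟩
  rw [this]
  exact isCompact_iUnion fun c => (isAffineOpen_and_generated hz hU _).1.isCompact

/-- Evaluation of functions at a point with values in a field. -/
def evK {K : Type u} [CommRing K] (i : Spec (CommRingCat.of K) ⟶ T) (W : T.Opens)
    (h : (⊤ : (Spec (CommRingCat.of K)).Opens) ≤ i ⁻¹ᵁ W) : Γ(T, W) →+* K :=
  (i.appLE W ⊤ h ≫ (Scheme.ΓSpecIso (CommRingCat.of K)).hom).hom

theorem evK_res {K : Type u} [CommRing K] (i : Spec (CommRingCat.of K) ⟶ T) {W V : T.Opens} (hle : V ≤ W)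
    (h : (⊤ : (Spec (CommRingCat.of K)).Opens) ≤ i ⁻¹ᵁ V) (a : Γ(T, W)) :
    evK i V h (resO T hle a) = evK i W (h.trans (i.preimage_mono hle)) a := by
  change ((T.presheaf.map (homOfLE hle).op ≫ i.appLE V ⊤ h) ≫ (Scheme.ΓSpecIso _).hom).hom a = _
  rw [Scheme.Hom.map_appLE]
  rfl

theorem top_le_of_mem {K : Type u} [Field K] (i : Spec (CommRingCat.of K) ⟶ T) {W : T.Opens}
    {p : Spec (CommRingCat.of K)} (h : i p ∈ W) : (⊤ : (Spec (CommRingCat.of K)).Opens) ≤ i ⁻¹ᵁ W :=
  fun q _ => by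
    change i q ∈ W
    rw [Subsingleton.elim q p]
    exact h

theorem mem_basicOpen_of_evK {K : Type u} [Field K] (i : Spec (CommRingCat.of K) ⟶ T) {W : T.Opens}
    (h : (⊤ : (Spec (CommRingCat.of K)).Opens) ≤ i ⁻¹ᵁ W) {a : Γ(T, W)} (ha : evK i W h a ≠ 0)
    (p : Spec (CommRingCat.of K)) : i p ∈ T.basicOpen a := by
  have hu : IsUnit ((i.appLE W ⊤ h).hom a) := by
    have h2 : IsUnit ((Scheme.ΓSpecIso (CommRingCat.of K)).inv.hom (evK i W h a)) :=
      (IsUnit.mk0 _ ha).map _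
    rwa [evK, CommRingCat.hom_comp, RingHom.comp_apply, ← RingHom.comp_apply, ← CommRingCat.hom_comp,
      Iso.hom_inv_id] at h2
  have : p ∈ (Spec (CommRingCat.of K)).basicOpen ((i.appLE W ⊤ h).hom a) := by
    rw [Scheme.basicOpen_of_isUnit _ hu]; trivial
  rw [Scheme.Hom.appLE, CommRingCat.hom_comp, RingHom.comp_apply, Scheme.basicOpen_res,
    ← Scheme.preimage_basicOpen] at this
  exact this.2

set_option maxHeartbeats 1000000 in
theorem existence_g (hz : IsUniv z) : ValuativeCriterion.Existence z.g := by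
  classical
  rintro ⟨R, K, i₁, i₂, ⟨sq⟩⟩
  obtain ⟨U, hU, hy, -⟩ := exists_isAffineOpen_mem_and_subset
    (x := i₂ (IsLocalRing.closedPoint R)) (U := ⊤) trivial
  have hR : (⊤ : (Spec (CommRingCat.of R)).Opens) ≤ i₂ ⁻¹ᵁ U :=
    (Scheme.preimage_eq_top_of_closedPoint_mem i₂ hy).ge
  let pt : Spec (CommRingCat.of K) := IsLocalRing.closedPoint K
  have hx : i₁ pt ∈ z.g ⁻¹ᵁ U := by
    change z.g (i₁ pt) ∈ U
    rw [← Scheme.Hom.comp_apply, sq, Scheme.Hom.comp_apply]
    exact hR (x := Spec.map (CommRingCat.ofHom (algebraMap R K)) pt) trivial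
  obtain ⟨G, hG⟩ := exists_gens (f := f) hU
  obtain ⟨c₀, hc₀⟩ := exists_mem_goodLocus z hU G hG hx
  let b₀ : Fin d → Γ(X, f ⁻¹ᵁ U) := fun i => (c₀ i).1
  have hg₀ := isGen_sig_goodLocus z hU b₀
  have hα : ∀ b : Fin d → Γ(X, f ⁻¹ᵁ U), ∃ α : Γ(T, good z hU b₀),
      res (LMod z) (goodLocus_le z hU b₀) (sig z U b) = α • res (LMod z) (goodLocus_le z hU b₀) (sig z U b₀) :=
    fun b => by
      obtain ⟨a, ha⟩ := (hg₀ _ le_rfl).2 (res (LMod z) (goodLocus_le z hU b₀) (sig z U b))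
      simp only [res_self] at ha
      exact ⟨a, ha.symm⟩
  choose α hα using hα
  have ht₀ := top_le_of_mem i₁ hc₀
  let A : (Fin d → G) → K := fun c => evK i₁ _ ht₀ (α fun i => (c i).1)
  have hA₀ : A c₀ = 1 := by
    have h1 : α b₀ = 1 := (hg₀ _ le_rfl).1 (by
      simp only [res_self]
      exact (hα b₀).symm.trans (one_smul _ _).symm)
    change evK i₁ _ ht₀ (α b₀) = 1
    rw [h1, map_one]
  obtain ⟨c₁, -, hmax⟩ := Finset.exists_max_image (Finset.univ : Finset (Fin d → G))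
    (fun c => ValuationRing.valuation R K (A c)) ⟨c₀, Finset.mem_univ _⟩
  let b₁ : Fin d → Γ(X, f ⁻¹ᵁ U) := fun i => (c₁ i).1
  have hA₁ : A c₁ ≠ 0 := fun h0 => by
    have := hmax c₀ (Finset.mem_univ _)
    rw [hA₀, map_one, h0, map_zero] at this
    exact one_ne_zero (le_antisymm this zero_le)
  -- the point lies in the second chart
  let D := T.basicOpen (α b₁)
  have hDle : D ≤ good z hU b₀ := T.basicOpen_le _
  have hc₁ : i₁ pt ∈ good z hU b₁ := by
    refine le_goodLocus_of_isGen z hU b₁ (hDle.trans (goodLocus_le z hU b₀)) ?_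
      (mem_basicOpen_of_evK i₁ ht₀ hA₁ pt)
    rw [← res_res (LMod z) hDle (goodLocus_le z hU b₀), hα b₁, res_smul]
    exact TMul.isGen_smul (hg₀.res hDle) (T.toLocallyRingedSpace.toRingedSpace.isUnit_res_basicOpen _)
  have ht₁ := top_le_of_mem i₁ hc₁
  let W := good z hU b₀ ⊓ good z hU b₁
  have hW₀ : W ≤ good z hU b₀ := inf_le_left
  have hW₁ : W ≤ good z hU b₁ := inf_le_right
  have htW : (⊤ : (Spec (CommRingCat.of K)).Opens) ≤ i₁ ⁻¹ᵁ W := top_le_of_mem i₁ (p := pt) ⟨hc₀, hc₁⟩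
  let ρ := evK i₁ _ ht₁
  have hcoef : ∀ g ∈ G, ∀ k, ∃ a : R, algebraMap R K a = ρ (coef hU b₁ z g k) := fun g hg k => by
    let cu : Fin d → G := Function.update c₁ k ⟨g, hg⟩
    have hcu : (fun i => (cu i).1) = Function.update b₁ k g :=
      funext fun i => Function.apply_update (fun _ (w : G) => w.1) c₁ k ⟨g, hg⟩ i
    have e1 := congrArg (res (LMod z) hW₁) (sig_update_eq z hU b₁ g k)
    have e2 := congrArg (res (LMod z) hW₀) (hα b₁)
    have e3 := congrArg (res (LMod z) hW₀) (hα fun i => (cu i).1)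
    simp only [res_res, res_smul] at e1 e2 e3
    rw [e2, smul_smul, ← hcu] at e1
    have h := (hg₀ W hW₀).1 (a₁ := resO T hW₀ (α fun i => (cu i).1))
      (a₂ := resO T hW₁ (coef hU b₁ z g k) * resO T hW₀ (α b₁)) (by
        simp only [res_res]
        exact e3.symm.trans e1)
    have hK : A cu = ρ (coef hU b₁ z g k) * A c₁ := by
      have := congrArg (evK i₁ W htW) h
      rw [map_mul, evK_res, evK_res, evK_res] at this
      exact this
    have hle := hmax cu (Finset.mem_univ _)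
    rw [hK, map_mul] at hle
    rw [← ValuationRing.mem_integer_iff, Valuation.mem_integer_iff]
    exact le_of_mul_le_mul_right (hle.trans (one_mul _).ge) (zero_lt_iff.mpr ((Valuation.ne_zero_iff _).mpr hA₁))
  -- the map to the valuation ring
  let φ : Γ(S, U) →+* R := (i₂.appLE U ⊤ hR ≫ (Scheme.ΓSpecIso (CommRingCat.of R)).hom).hom
  have hφ : ∀ r, algebraMap R K (φ r) = ρ ((z.g.appLE U (good z hU b₁) (goodLocus_le z hU b₁)).hom r) := fun r => by
    have key : (i₂.appLE U ⊤ hR ≫ (Scheme.ΓSpecIso (CommRingCat.of R)).hom) ≫ CommRingCat.ofHom (algebraMap R K) =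
        z.g.appLE U (good z hU b₁) (goodLocus_le z hU b₁) ≫ i₁.appLE _ ⊤ ht₁ ≫
          (Scheme.ΓSpecIso (CommRingCat.of K)).hom := by
      rw [Category.assoc, ← Scheme.ΓSpecIso_naturality, ← Category.assoc,
        appTop_eq, Scheme.Hom.appLE_comp_appLE, ← Category.assoc (z.g.appLE _ _ _), Scheme.Hom.appLE_comp_appLE]
      simp only [sq]
    exact congrArg (fun ψ : Γ(S, U) ⟶ CommRingCat.of K => ψ.hom r) key
  have hall : ∀ y : Γ(T, good z hU b₁), ∃ a : R, algebraMap R K a = ρ y := by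
    intro y
    have hy : y ∈ Subring.closure _ := (closure_eq_top hz hU b₁ G hG).ge (Subring.mem_top y)
    induction hy using Subring.closure_induction with
    | mem w hw =>
      rcases hw with ⟨r, rfl⟩ | ⟨g, hg, k, rfl⟩
      · exact ⟨φ r, hφ r⟩
      · exact hcoef g hg k
    | zero => exact ⟨0, by rw [map_zero, map_zero]⟩
    | one => exact ⟨1, by rw [map_one, map_one]⟩
    | add a c _ _ ha hc =>
      obtain ⟨a', ha⟩ := ha; obtain ⟨c', hc⟩ := hc
      exact ⟨a' + c', by rw [map_add, map_add, ha, hc]⟩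
    | mul a c _ _ ha hc =>
      obtain ⟨a', ha⟩ := ha; obtain ⟨c', hc⟩ := hc
      exact ⟨a' * c', by rw [map_mul, map_mul, ha, hc]⟩
    | neg a _ ha =>
      obtain ⟨a', ha⟩ := ha
      exact ⟨-a', by rw [map_neg, map_neg, ha]⟩
  choose ψf hψf using hall
  have hinj : Function.Injective (algebraMap R K) := IsFractionRing.injective R K
  let ψ : Γ(T, good z hU b₁) →+* R :=
    { toFun := ψf
      map_one' := hinj (by rw [hψf, map_one, map_one])
      map_zero' := hinj (by rw [hψf, map_zero, map_zero])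
      map_add' := fun a c => hinj (by rw [hψf, map_add, map_add, hψf, hψf])
      map_mul' := fun a c => hinj (by rw [hψf, map_mul, map_mul, hψf, hψf]) }
  have hO := (isAffineOpen_and_generated hz hU b₁).1
  refine ⟨⟨⟨Spec.map (CommRingCat.ofHom ψ) ≫ hO.fromSpec, ?_, ?_⟩⟩⟩
  · change Spec.map (CommRingCat.ofHom (algebraMap R K)) ≫ _ = i₁
    rw [← Category.assoc, ← Spec.map_comp]
    refine Eq.trans ?_ (eq_toSpec_fromSpec i₁ hO ht₁).symm
    refine congrArg (· ≫ hO.fromSpec) ?_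
    rw [toSpec, ← Scheme.isoSpec_hom, Scheme.isoSpec_Spec_hom, ← Spec.map_comp]
    exact congrArg Spec.map (CommRingCat.hom_ext (RingHom.ext fun y => hψf y))
  · have hcomp : z.g.appLE U (good z hU b₁) (goodLocus_le z hU b₁) ≫ CommRingCat.ofHom ψ =
        i₂.appLE U ⊤ hR ≫ (Scheme.ΓSpecIso (CommRingCat.of R)).hom :=
      CommRingCat.hom_ext (RingHom.ext fun r => hinj ((hψf _).trans (hφ r).symm))
    change _ = i₂
    rw [Category.assoc, ← IsAffineOpen.SpecMap_appLE_fromSpec z.g hU hO (goodLocus_le z hU b₁),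
      ← Category.assoc, ← Spec.map_comp, hcomp, Spec.map_comp]
    refine Eq.trans ?_ (eq_toSpec_fromSpec i₂ hU hR).symm
    rw [toSpec, ← Scheme.isoSpec_hom, Scheme.isoSpec_Spec_hom]

/-- A universal family lives over a proper scheme. -/
theorem isProper_g (hz : IsUniv z) [IsSeparated z.g] : IsProper z.g := by
  haveI := locallyOfFiniteType_g hz
  haveI := quasiCompact_g hz
  exact IsProper.of_valuativeCriterion z.g
    (ValuativeCriterion.iff.mpr ⟨existence_g hz, IsSeparated.valuativeCriterion z.g⟩)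

end Groth.Agent.HilbFin
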